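import Groth.Agent.TFNodal7.Stalk
import Groth.Agent.Coherent.Devissage
import Groth.Agent.OmegaLib.StalkCompat
import Groth.Agent.PicLib.FiniteSetTriv

/-!
# The unit and its torsion-free quotient at the nodes
-/

set_option autoImplicit false
set_option linter.style.haveILetI false
set_option backward.isDefEq.respectTransparency false
set_option maxHeartbeats 1000000
set_option synthInstance.maxHeartbeats 200000

universe u

open CategoryTheory CategoryTheory.Limits AlgebraicGeometry Opposite TopologicalSpace IsLocalRing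
open Groth.Agent.Coherent Groth.Agent.ModStalk Groth.Agent.ArtFunLib.QuotLift
open scoped TensorProduct

noncomputable section

namespace Groth.Agent.TFNodal7

/-- The stalk of a cokernel. -/
theorem exists_cokernel_stalk {X : Scheme.{u}} {M N : X.Modules} (u : M ⟶ N) (x : X) :
    ∃ e : (St N x ⧸ LinearMap.range (stk u x)) ≃ₗ[X.presheaf.stalk x] St (cokernel u) x,
      ∀ v, e (Submodule.Quotient.mk v) = stk (cokernel.π u) x v := by
  let F := DerSch.stalkFunctor X x
  let S := ShortComplex.mk u (cokernel.π u) (cokernel.condition u)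
  have hS : S.Exact := S.exact_of_g_is_cokernel (cokernelIsCokernel u)
  have hF : LinearMap.range (stk u x) = LinearMap.ker (stk (cokernel.π u) x) := (hS.map F).moduleCat_range_eq_ker
  exact ⟨(Submodule.quotEquivOfEq _ _ hF).trans
    ((stk (cokernel.π u) x).quotKerEquivOfSurjective (surjective_stk _ x)), fun v => rfl⟩

theorem mono_of_stk_injective {X : Scheme.{u}} {M N : X.Modules} (v : M ⟶ N)
    (h : ∀ x, Function.Injective (stk v x)) : Mono v :=
  OmegaLib.mono_of_stalks_injective v h

variable (k : Type u) [Field k] [IsAlgClosed k] {X : Scheme.{u}} [X.Over (Spec (CommRingCat.of k))]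
  [IsProper (X ↘ Spec (CommRingCat.of k))] [ConnectedSpace X] (hdim : topologicalKrullDim X = 1)
  (hnod : Curv2.AtWorstNodal k X) {Y : Scheme.{u}} (π : Y ⟶ X) [IsFinite π]
  [Smooth (π ≫ (X ↘ Spec (CommRingCat.of k)))] {U : X.Opens}
  (hU : ∀ x : X, x ∈ U ↔ ¬ Curv2.IsNode k X x) (hUiso : IsIso (π ∣_ U))
  (hUd : Dense ((π ⁻¹ᵁ U : Y.Opens) : Set Y))
  {F : X.Modules} [Coh.IsQCoh F]

/-- The unit. -/
abbrev unitAt (F : X.Modules) : F ⟶ pushPull π F := (Scheme.Modules.pullbackPushforwardAdjunction π).unit.app F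

include hdim hnod hU hUiso hUd in
/-- The unit at a node, in coordinates. -/
theorem exists_coord {x : X} {a b : ℕ}
    (eF : St F x ≃ₗ[X.presheaf.stalk x] Model (A := X.presheaf.stalk x) a b) :
    ∃ g : Model (A := X.presheaf.stalk x) a b ⊗[X.presheaf.stalk x] (St (pushO π) x) ≃ₗ[X.presheaf.stalk x]
        St (pushPull π F) x,
      ∀ v : St F x, g ((eF v) ⊗ₜ oneMap π x 1) = stk (unitAt π F) x v := by
  obtain ⟨e, he⟩ := exists_stalk_equiv π F x
  refine ⟨(TensorProduct.congr eF (LinearEquiv.refl _ _)).symm.trans e,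
    fun v => ?_⟩
  refine Eq.trans ?_ (he v)
  rw [show oneMap π x 1 = oneSt π x from one_smul _ _]
  refine congrArg e ?_
  show (eF.symm (eF v)) ⊗ₜ oneSt π x = _
  rw [eF.symm_apply_apply]

include hdim hnod hU hUiso hUd in
/-- The unit at a node. -/
theorem unit_node {x : X} (hx : Curv2.IsNode k X x) {a b : ℕ}
    (eF : St F x ≃ₗ[X.presheaf.stalk x] Model (A := X.presheaf.stalk x) a b) :
    Function.Injective (stk (unitAt π F) x) ∧
      Module.length (X.presheaf.stalk x) (St (cokernel (unitAt π F)) x) = (a : ℕ∞) + 2 * (b : ℕ∞) := by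
  obtain ⟨hA, hcot, -⟩ := node_facts k hdim hnod hU hx
  obtain ⟨g, hg⟩ := exists_coord k hdim hnod π hU hUiso hUd eF
  have hφ := oneMap_injective k hdim hnod π hU hUd hUiso x
  refine ⟨fun v w h => eF.injective (tmul_one_injective (oneMap π x) hφ a b (g.injective ?_)), ?_⟩
  · show g (eF v ⊗ₜ oneMap π x 1) = g (eF w ⊗ₜ oneMap π x 1)
    rw [hg, hg, h]
  obtain ⟨q, -⟩ := exists_cokernel_stalk (unitAt π F) x
  rw [← q.length_eq, ← length_quot_tmul_one (oneMap π x) (length_quot_oneMap k hdim hnod π hU hUd hUiso hx) hcot a b]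
  refine (Submodule.Quotient.equiv _ _ g ?_).length_eq.symm
  rw [← LinearMap.range_comp]
  refine le_antisymm ?_ ?_
  · rintro _ ⟨v, rfl⟩
    exact ⟨eF.symm v, (hg _).symm.trans (by rw [eF.apply_symm_apply]; rfl)⟩
  · rintro _ ⟨v, rfl⟩
    exact ⟨eF v, hg v⟩

variable {r : ℕ}
  (hfree : ∀ x : X, ¬ Curv2.IsNode k X x →
    Nonempty (F.presheaf.stalk x ≃ₗ[X.presheaf.stalk x] (Fin r → X.presheaf.stalk x)))
  {E₀ : Y.Modules} (hE₀ : FlatMod.IsFinLocFreeOfRank r E₀) (p : (Scheme.Modules.pullback π).obj F ⟶ E₀) [Epi p]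

/-- `F → π_* E₀`. -/
abbrev beta : F ⟶ (Scheme.Modules.pushforward π).obj E₀ :=
  (unitAt π F) ≫ (Scheme.Modules.pushforward π).map p

include hdim hnod hU hUiso hUd hfree hE₀ in
/-- `F → π_* E₀` off the nodes. -/
theorem beta_smooth {x : X} (hx : x ∈ U) : Function.Bijective (stk (beta π p) x) := by
  haveI : Coh.IsQCoh E₀ := LocFreeLib.isQCoh_of_isFinLocFreeOfRank hE₀
  haveI := EGA43.InjFibre.isQCoh_pullback π F
  refine (congrArg Function.Bijective (funext fun v => stk_comp _ _ x v)).mpr ?_
  exact Function.Bijective.comp ⟨stk_push_p_injective k π hU hfree hE₀ p hx, stk_push_surjective π p x⟩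
    (unit_bijective k hdim hnod π hU hUiso hUd F hx)

include hdim hnod hU hUiso hUd hfree hE₀ in
/-- `F → π_* E₀` at a node. -/
theorem beta_node {x : X} (hx : Curv2.IsNode k X x) {a b : ℕ}
    (eF : St F x ≃ₗ[X.presheaf.stalk x] Model (A := X.presheaf.stalk x) a b) :
    Function.Injective (stk (beta π p) x) ∧
      Module.length (X.presheaf.stalk x) (St (cokernel (beta π p)) x) = (a : ℕ∞) := by
  haveI : Coh.IsQCoh E₀ := LocFreeLib.isQCoh_of_isFinLocFreeOfRank hE₀
  haveI := EGA43.InjFibre.isQCoh_pullback π F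
  obtain ⟨hA, hcot, t, ht, htn⟩ := node_facts k hdim hnod hU hx
  obtain ⟨g, hg⟩ := exists_coord k hdim hnod π hU hUiso hUd eF
  have hφ := oneMap_injective k hdim hnod π hU hUd hUiso x
  haveI := finite_pushO k π x
  let P := stk ((Scheme.Modules.pushforward π).map p) x
  let h := P.comp g.toLinearMap
  have hh : Function.Surjective h := (stk_push_surjective π p x).comp g.surjective
  have hM : ∀ w : St (pushO π) x, t • w = 0 → w = 0 := fun w hw =>
    eq_zero_of_smul k hdim hnod π hU hUiso hUd (E := Coh.structureModule Y) (r := 1)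
      (PicLib.isFinLocFreeOfRank_one AmpleLib.isInvertible_structureModule) htn w hw
  have hker : LinearMap.ker h = LinearMap.ker (proj a b) := by
    refine le_antisymm (fun z hz => ?_) (fun z hz => ?_)
    · obtain ⟨n, hn⟩ := exists_pow_smul_eq_zero k hdim hnod π hU hfree hE₀ p hx ht (g z) hz
      rw [← map_smul] at hn
      have h0 : proj a b (t ^ n • z) = 0 := by
        rw [g.map_eq_zero_iff.1 hn, map_zero]
      rw [map_smul] at h0
      rw [LinearMap.mem_ker]
      have key : ∀ m (w : St (pushO π) x), t ^ m • w = 0 → w = 0 := fun m => by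
        induction m with
        | zero => intro w hw; rwa [pow_zero, one_smul] at hw
        | succ m ih => intro w hw; rw [pow_succ, mul_smul] at hw; exact hM w (ih _ hw)
      exact Prod.ext (funext fun i => key n _ (congrFun (congrArg Prod.fst h0) i))
        (funext fun i => key n _ (congrFun (congrArg Prod.snd h0) i))
    · rw [LinearMap.mem_ker] at hz ⊢
      refine eq_zero_of_smul k hdim hnod π hU hUiso hUd hE₀ htn _ ?_
      rw [← map_smul, smul_eq_zero_of_proj a b ht hz, map_zero]
  refine ⟨fun v w e => eF.injective ?_, ?_⟩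
  · have e' : h (eF v ⊗ₜ oneMap π x 1) = h (eF w ⊗ₜ oneMap π x 1) := by
      show P (g _) = P (g _)
      rw [hg, hg]
      exact ((stk_comp _ _ x v).symm.trans e).trans (stk_comp _ _ x w)
    have e'' : eF v ⊗ₜ oneMap π x 1 - eF w ⊗ₜ oneMap π x 1 ∈ LinearMap.ker (proj a b) := by
      rw [← hker, LinearMap.mem_ker, map_sub, e', sub_self]
    rw [LinearMap.mem_ker, map_sub, sub_eq_zero] at e''
    simp only [proj_tmul, Prod.mk.injEq, funext_iff, ← map_smul, smul_eq_mul, mul_one] at e''
    exact Prod.ext (funext fun i => hφ (e''.1 i)) (funext fun i => Subtype.ext (hφ (e''.2 i)))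
  obtain ⟨q, -⟩ := exists_cokernel_stalk (beta π p) x
  rw [← q.length_eq, ← length_quot_comp (oneMap π x) hφ (length_quot_oneMap k hdim hnod π hU hUd hUiso hx) hcot a b h hh hker]
  refine (Submodule.quotEquivOfEq _ _ (le_antisymm ?_ ?_)).length_eq
  · rintro _ ⟨v, rfl⟩
    refine ⟨eF v, ?_⟩
    show P (g (eF v ⊗ₜ oneMap π x 1)) = _
    rw [hg]
    exact (stk_comp _ _ x v).symm
  · rintro _ ⟨v, rfl⟩
    refine ⟨eF.symm v, ?_⟩
    refine (stk_comp _ _ x _).trans ?_
    rw [← hg, eF.apply_symm_apply]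
    rfl

end Groth.Agent.TFNodal7
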