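import Groth.Agent.TFNodal7.Main

/-!
# Maps into torsion-free modules, and lengths of cokernels
-/

set_option autoImplicit false
set_option linter.style.haveILetI false
set_option backward.isDefEq.respectTransparency false
set_option maxHeartbeats 1000000
set_option synthInstance.maxHeartbeats 200000

universe u

open CategoryTheory CategoryTheory.Limits AlgebraicGeometry Opposite TopologicalSpace IsLocalRing
open Groth.Agent.Coherent Groth.Agent.ModStalk Groth.Agent.ArtFunLib.QuotLift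
open scoped TensorProduct

noncomputable section

namespace Groth.Agent.TFNodal7

theorem length_quot_comp_injective {A : Type u} [CommRing A] {F P Q : Type u} [AddCommGroup F] [Module A F]
    [AddCommGroup P] [Module A P] [AddCommGroup Q] [Module A Q] (f : F →ₗ[A] P) (l : P →ₗ[A] Q)
    (hl : Function.Injective l) :
    Module.length A (Q ⧸ LinearMap.range (l.comp f)) =
      Module.length A (P ⧸ LinearMap.range f) + Module.length A (Q ⧸ LinearMap.range l) := by
  let a : (P ⧸ LinearMap.range f) →ₗ[A] Q ⧸ LinearMap.range (l.comp f) :=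
    Submodule.mapQ _ _ l (by rintro _ ⟨v, rfl⟩; exact ⟨v, rfl⟩)
  let b : (Q ⧸ LinearMap.range (l.comp f)) →ₗ[A] Q ⧸ LinearMap.range l :=
    Submodule.mapQ _ _ LinearMap.id (by rintro _ ⟨v, rfl⟩; exact ⟨f v, rfl⟩)
  refine Module.length_eq_add_of_exact a b ?_ (fun y => ?_) (fun y => ⟨?_, ?_⟩)
  · refine (injective_iff_map_eq_zero a).2 fun z hz => ?_
    obtain ⟨p, rfl⟩ := Submodule.Quotient.mk_surjective _ z
    obtain ⟨v, hv⟩ := (Submodule.Quotient.mk_eq_zero _).1 hz
    exact (Submodule.Quotient.mk_eq_zero _).2 ⟨v, hl hv⟩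
  · obtain ⟨q, rfl⟩ := Submodule.Quotient.mk_surjective _ y
    exact ⟨Submodule.Quotient.mk q, rfl⟩
  · obtain ⟨q, rfl⟩ := Submodule.Quotient.mk_surjective _ y
    intro h
    obtain ⟨p, hp⟩ := (Submodule.Quotient.mk_eq_zero _).1 h
    exact ⟨Submodule.Quotient.mk p, congrArg Submodule.Quotient.mk hp⟩
  · rintro ⟨z, rfl⟩
    obtain ⟨p, rfl⟩ := Submodule.Quotient.mk_surjective _ z
    exact (Submodule.Quotient.mk_eq_zero _).2 ⟨p, rfl⟩

/-- A map into a locally free module on a normal scheme vanishing on a dense open vanishes. -/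
theorem hom_eq_zero_of_dense {Y : Scheme.{u}} [IsLocallyNoetherian Y] (hN : Pi1.IsNormalScheme Y) {r : ℕ}
    {K E : Y.Modules} (hE : FlatMod.IsFinLocFreeOfRank r E) (v : K ⟶ E) {D : Y.Opens} (hD : Dense (D : Set Y))
    (h : ∀ y ∈ D, ∀ z, stk v y z = 0) : v = 0 := by
  haveI := NormSeq24.isReduced_of_isNormalScheme hN
  haveI : Coh.IsQCoh E := LocFreeLib.isQCoh_of_isFinLocFreeOfRank hE
  refine hom_eq_zero_of_stk v fun y z => ?_
  obtain ⟨O, hyO, s, rfl⟩ := exists_germP_eq (DCoh.toP.obj K) z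
  obtain ⟨W, hW, hyW, hWO⟩ := exists_isAffineOpen_mem_and_subset (x := y) (U := O) hyO
  replace hWO : W ≤ O := hWO
  obtain ⟨b, hb, hbD⟩ := NormSeq24.exists_nzd hD hW
  let s' := resM K hWO s
  have h0 : E.presheaf.map (homOfLE (Y.basicOpen_le b)).op (v.app W s') = 0 := by
    show resM E (Y.basicOpen_le b) (v.app W s') = 0
    rw [← app_resM]
    refine EGA43.InjFibre.eq_zero_of_germ E _ fun w hw => ?_
    exact (Coherent.stalk_map_germ v hw _).symm.trans (h w (hbD hw) _)
  obtain ⟨n, hn⟩ := QCohLoc.exists_pow_smul_eq_zero (M := E) hW b _ h0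
  have h1 := congrArg (E.presheaf.germ W y hyW) hn
  rw [QCohLoc.germ_smul', map_zero, map_pow] at h1
  haveI := (hN y).1
  haveI := Props12.free_stalk_of_isFinLocFree E (VarietyLib.isFinLocFree_of_rank hE) y
  have hb0 : Y.presheaf.germ W y hyW b ≠ 0 := by
    letI := TopCat.Presheaf.algebra_section_stalk Y.presheaf (⟨y, hyW⟩ : W)
    haveI := hW.isLocalization_stalk ⟨y, hyW⟩
    exact nonZeroDivisors.ne_zero
      (IsLocalization.nonZeroDivisors_le_comap (hW.primeIdealOf ⟨y, hyW⟩).asIdeal.primeCompl (Y.presheaf.stalk y) hb)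
  have h2 := (smul_eq_zero.1 h1).resolve_left (pow_ne_zero n hb0)
  have h3 : stk v y (germP y (DCoh.toP.obj K) O hyO s) = E.presheaf.germ W y hyW (v.app W s') := by
    rw [← germP_res (DCoh.toP.obj K) (homOfLE hWO) hyW s]
    exact Coherent.stalk_map_germ v hyW _
  exact h3.trans h2

variable (k : Type u) [Field k] [IsAlgClosed k] {X : Scheme.{u}} [X.Over (Spec (CommRingCat.of k))]
  [IsProper (X ↘ Spec (CommRingCat.of k))] [ConnectedSpace X] (hdim : topologicalKrullDim X = 1)
  (hnod : Curv2.AtWorstNodal k X) {Y : Scheme.{u}} (π : Y ⟶ X) [IsFinite π]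
  [Smooth (π ≫ (X ↘ Spec (CommRingCat.of k)))] {U : X.Opens}
  (hU : ∀ x : X, x ∈ U ↔ ¬ Curv2.IsNode k X x) (hUiso : IsIso (π ∣_ U))
  (hUd : Dense ((π ⁻¹ᵁ U : Y.Opens) : Set Y))
  {F : X.Modules} [Coh.IsQCoh F] {r : ℕ}
  (hfree : ∀ x : X, ¬ Curv2.IsNode k X x →
    Nonempty (F.presheaf.stalk x ≃ₗ[X.presheaf.stalk x] (Fin r → X.presheaf.stalk x)))
  {E₀ : Y.Modules} (hE₀ : FlatMod.IsFinLocFreeOfRank r E₀) (p : (Scheme.Modules.pullback π).obj F ⟶ E₀) [Epi p]
  {E : Y.Modules} (hE : FlatMod.IsFinLocFreeOfRank r E)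

include k hU hUd hfree hE₀ hE in
/-- Maps from `π^* F` into locally free modules factor through `p`. -/
theorem exists_desc (f : (Scheme.Modules.pullback π).obj F ⟶ E) : ∃ lam : E₀ ⟶ E, p ≫ lam = f := by
  haveI := CurveRR24.isLocallyNoetherian_of_proper k (X := X)
  haveI : IsLocallyNoetherian Y := LocallyOfFiniteType.isLocallyNoetherian π
  have hz : kernel.ι p ≫ f = 0 := by
    refine hom_eq_zero_of_dense (isNormal_Y k π) hE _ hUd fun y hy z => ?_
    have h1 : stk (kernel.ι p) y z = 0 := by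
      refine (stk_p_bijective k π hU hfree hE₀ p hy).1 ?_
      rw [← stk_comp, kernel.condition, stk_zero, map_zero]
    rw [stk_comp, h1, map_zero]
  exact ⟨Abelian.epiDesc p f hz, Abelian.comp_epiDesc p f hz⟩

include hdim hnod hU hUiso hUd hfree hE₀ in
/-- At a node an element of `m` pushes the stalk of `π_* E₀` into the image of `F`. -/
theorem smul_mem_range_beta {x : X} (hx : Curv2.IsNode k X x) {a b : ℕ}
    (eF : St F x ≃ₗ[X.presheaf.stalk x] Model (A := X.presheaf.stalk x) a b) {t : X.presheaf.stalk x}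
    (ht : t ∈ maximalIdeal (X.presheaf.stalk x)) (z : St ((Scheme.Modules.pushforward π).obj E₀) x) :
    t • z ∈ LinearMap.range (stk (beta π p) x) := by
  haveI : Coh.IsQCoh E₀ := LocFreeLib.isQCoh_of_isFinLocFreeOfRank hE₀
  haveI := EGA43.InjFibre.isQCoh_pullback π F
  obtain ⟨g, hg⟩ := exists_coord k hdim hnod π hU hUiso hUd eF
  haveI := (node_facts k hdim hnod hU hx).1
  obtain ⟨z, rfl⟩ := stk_push_surjective π p x z
  obtain ⟨z, rfl⟩ := g.surjective z
  induction z using TensorProduct.induction_on with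
  | zero => simp
  | tmul v w =>
    obtain ⟨c, hc⟩ := smul_mem_range_of_length_one (oneMap π x) (length_quot_oneMap k hdim hnod π hU hUd hUiso hx) ht w
    refine ⟨eF.symm (c • v), ?_⟩
    refine (stk_comp _ _ x _).trans ?_
    rw [← map_smul, ← map_smul, ← hg, eF.apply_symm_apply, ← TensorProduct.tmul_smul, ← hc]
    congr 2
    rw [TensorProduct.smul_tmul, ← map_smul, smul_eq_mul, mul_one]
  | add u w hu hw =>
    rw [map_add, map_add, smul_add]
    exact add_mem hu hw

include hdim hnod hU hUiso hUd hfree hE₀ in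
/-- `π_* λ` is injective at a point as soon as its composite with `β` is. -/
theorem stk_lam_injective (lam : E₀ ⟶ E) {x : X}
    (hi : Function.Injective (stk (beta π p ≫ (Scheme.Modules.pushforward π).map lam) x))
    (htype : Curv2.IsNode k X x → ∃ a b, Nonempty (St F x ≃ₗ[X.presheaf.stalk x] Model (A := X.presheaf.stalk x) a b)) :
    Function.Injective (stk ((Scheme.Modules.pushforward π).map lam) x) := by
  refine (injective_iff_map_eq_zero _).2 fun z hz => ?_
  by_cases hx : Curv2.IsNode k X x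
  · obtain ⟨-, -, t, ht, htn⟩ := node_facts k hdim hnod hU hx
    obtain ⟨a, b, ⟨eF⟩⟩ := htype hx
    obtain ⟨v, hv⟩ := smul_mem_range_beta k hdim hnod π hU hUiso hUd hfree hE₀ p hx eF ht z
    have h0 : v = 0 := hi (by rw [stk_comp, hv, map_smul, hz, smul_zero, map_zero])
    refine eq_zero_of_smul k hdim hnod π hU hUiso hUd hE₀ htn z ?_
    rw [← hv, h0, map_zero]
  · obtain ⟨v, rfl⟩ := (beta_smooth k hdim hnod π hU hUiso hUd hfree hE₀ p ((hU x).2 hx)).2 z
    rw [← stk_comp] at hz
    rw [hi (hz.trans (map_zero _).symm), map_zero]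

end Groth.Agent.TFNodal7
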