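import Groth.Agent.TFNodal7.PushPull
import Groth.Agent.NormSeq24.GenusCount
import Groth.Agent.NeronLib.NormalSmooth
import Groth.Agent.Coherent.SupportPullback
import Groth.Agent.Coherent.FinitePres
import Groth.Agent.Et18.NeronProper

/-!
# Local structure of a normalisation at a node
-/

set_option autoImplicit false
set_option linter.style.haveILetI false
set_option backward.isDefEq.respectTransparency false
set_option maxHeartbeats 1000000

universe u

open CategoryTheory CategoryTheory.Limits AlgebraicGeometry Opposite TopologicalSpace IsLocalRing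
open Groth.Agent.Coherent Groth.Agent.ModStalk Groth.Agent.ArtFunLib.QuotLift
open scoped TensorProduct

noncomputable section

namespace Groth.Agent.TFNodal7

/-- Components of a connected curve are curves. -/
theorem components_dim_one (T : Type u) [TopologicalSpace T] [T0Space T] [QuasiSober T] [NoetherianSpace T]
    [ConnectedSpace T] (hdim : topologicalKrullDim T = 1) :
    ∀ Z ∈ irreducibleComponents T, topologicalKrullDim Z = 1 := by
  intro Z hZ
  have hcl := isClosed_of_mem_irreducibleComponents Z hZ
  have hle : topologicalKrullDim Z ≤ 1 := hdim ▸ topologicalKrullDim_subspace_le T Z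
  refine le_antisymm hle ?_
  by_contra hlt
  obtain ⟨η, hη⟩ := QuasiSober.sober hZ.1 hcl
  haveI : Nonempty Z := hZ.1.nonempty.to_subtype
  have hZη : Z = {η} := by
    refine Set.Subset.antisymm (fun z hz => ?_) (Set.singleton_subset_iff.2 hη.mem)
    by_contra hne
    have hne' : z ≠ η := hne
    let a : IrreducibleCloseds Z := ⟨Subtype.val ⁻¹' closure {z}, by
      have : (Subtype.val ⁻¹' closure {z} : Set Z) = closure {⟨z, hz⟩} := by
        rw [Topology.IsEmbedding.subtypeVal.closure_eq_preimage_closure_image, Set.image_singleton]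
      rw [this]; exact isIrreducible_singleton.closure, isClosed_closure.preimage continuous_subtype_val⟩
    let b : IrreducibleCloseds Z := ⟨Set.univ, by
      haveI : IrreducibleSpace Z := (Subtype.irreducibleSpace hZ.1)
      exact IrreducibleSpace.isIrreducible_univ Z, isClosed_univ⟩
    have hab : a < b := by
      refine lt_of_le_of_ne (fun w _ => trivial) fun e => ?_
      have h1 : η ∈ closure ({z} : Set T) :=
        (Set.ext_iff.1 (congrArg SetLike.coe e) ⟨η, hη.mem⟩).2 trivial
      exact hne' ((specializes_iff_mem_closure.2 h1).antisymm (hη.specializes hz)).eq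
    exact hlt ((Nat.cast_one (R := WithBot ℕ∞)) ▸ Order.LTSeries.length_le_krullDim
      (RelSeries.singleton _ a |>.snoc b hab))
  have hfin := NoetherianSpace.finite_irreducibleComponents (α := T)
  have hopen : IsOpen Z := by
    have hrest : IsClosed (⋃₀ (irreducibleComponents T \ {Z})) := by
      rw [Set.sUnion_eq_biUnion]
      exact (hfin.diff).isClosed_biUnion fun C hC => isClosed_of_mem_irreducibleComponents C hC.1
    have : Z = (⋃₀ (irreducibleComponents T \ {Z}))ᶜ := by
      refine Set.Subset.antisymm (fun z hz => ?_) fun z hz => ?_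
      · rintro ⟨C, ⟨hC, hne⟩, hzC⟩
        have hsub : Z ⊆ C := by
          rw [hZη] at hz ⊢
          rw [Set.singleton_subset_iff]
          rwa [Set.mem_singleton_iff.1 hz] at hzC
        exact hne (Set.Subset.antisymm (hZ.2 hC.1 hsub) hsub)
      · by_contra hzZ
        exact hz ⟨_, ⟨irreducibleComponent_mem_irreducibleComponents z,
          fun e => hzZ (e ▸ mem_irreducibleComponent)⟩, mem_irreducibleComponent⟩
    rw [this]
    exact hrest.isOpen_compl
  have huniv : Z = Set.univ := IsClopen.eq_univ ⟨hcl, hopen⟩ hZ.1.nonempty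
  haveI : Subsingleton T := ⟨fun p q => by
    have hp : p ∈ Z := huniv ▸ trivial
    have hq : q ∈ Z := huniv ▸ trivial
    rw [hZη, Set.mem_singleton_iff] at hp hq
    rw [hp, hq]⟩
  haveI : Subsingleton (IrreducibleCloseds T) := ⟨fun p q => by
    refine SetLike.coe_injective ?_
    rw [p.isIrreducible.nonempty.eq_univ, q.isIrreducible.nonempty.eq_univ]⟩
  have h0 : Order.krullDim (IrreducibleCloseds T) ≤ 0 := Order.krullDim_nonpos_of_subsingleton
  rw [topologicalKrullDim] at hdim
  rw [hdim] at h0
  exact absurd h0 (by norm_num)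

variable (k : Type u) [Field k] [IsAlgClosed k] {X : Scheme.{u}} [X.Over (Spec (CommRingCat.of k))]
  [IsProper (X ↘ Spec (CommRingCat.of k))] [ConnectedSpace X] (hdim : topologicalKrullDim X = 1)
  (hnod : Curv2.AtWorstNodal k X) {Y : Scheme.{u}} (π : Y ⟶ X) [IsFinite π]
  [Smooth (π ≫ (X ↘ Spec (CommRingCat.of k)))] {U : X.Opens}
  (hU : ∀ x : X, x ∈ U ↔ ¬ Curv2.IsNode k X x) (hUd : Dense ((π ⁻¹ᵁ U : Y.Opens) : Set Y))

/-- The structure map at a point. -/
abbrev oneMap (x : X) : X.presheaf.stalk x →ₗ[X.presheaf.stalk x] St (pushO π) x :=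
  LinearMap.toSpanSingleton _ _ (oneSt π x)

include hnod in
theorem isReduced_X : AlgebraicGeometry.IsReduced X :=
  haveI : ∀ z : X, _root_.IsReduced (X.presheaf.stalk z) := NodeLib7.isReduced_stalk_of_atWorstNodal k X hnod
  isReduced_of_isReduced_stalk X

include k π in
theorem isNormal_Y : Pi1.IsNormalScheme Y :=
  NeronLib.isNormalScheme_of_smooth (π ≫ (X ↘ Spec (CommRingCat.of k))) (Et18.NeronProper.isNormalScheme_Spec k)

include hdim hnod hU in
theorem dense_U : Dense (U : Set X) := by
  haveI := CurveRR24.isLocallyNoetherian_of_proper k (X := X)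
  haveI : CompactSpace X := QuasiCompact.compactSpace_of_compactSpace (X ↘ Spec (CommRingCat.of k))
  haveI : AlgebraicGeometry.IsNoetherian X := {}
  intro z
  obtain ⟨η, hη⟩ := QuasiSober.sober (isIrreducible_irreducibleComponent (x := z)) isClosed_irreducibleComponent
  have hηU : η ∈ U := by
    rw [hU]
    intro hn
    have h1 := components_dim_one X hdim _ (irreducibleComponent_mem_irreducibleComponents z)
    have h2 : irreducibleComponent z = {η} := by rw [← hη.def]; exact hn.1.closure_eq
    rw [h2] at h1
    haveI : Subsingleton (IrreducibleCloseds ({η} : Set X)) := ⟨fun p q => by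
      refine SetLike.coe_injective ?_
      rw [p.isIrreducible.nonempty.eq_univ, q.isIrreducible.nonempty.eq_univ]⟩
    have h0 : Order.krullDim (IrreducibleCloseds ({η} : Set X)) ≤ 0 := Order.krullDim_nonpos_of_subsingleton
    rw [topologicalKrullDim] at h1
    rw [h1] at h0
    exact absurd h0 (by norm_num)
  have hz : z ∈ closure ({η} : Set X) := by rw [hη.def]; exact mem_irreducibleComponent
  exact closure_mono (Set.singleton_subset_iff.2 (show η ∈ (U : Set X) from hηU)) hz

theorem range_unitToPush (x : X) :
    LinearMap.range (stk (ClSub.unitToPush π) x) = LinearMap.range (oneMap π x) := by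
  have hval : ∀ (V : X.Opens) (hx : x ∈ V) (c : Γ(X, V)),
      stk (ClSub.unitToPush π) x (germP x (DCoh.toP.obj (Coh.structureModule X)) V hx c) =
        oneMap π x (X.presheaf.germ V x hx c) := fun V hx c => by
    refine (Coherent.stalk_map_germ (ClSub.unitToPush π) hx c).trans ?_
    show _ = X.presheaf.germ V x hx c • oneSt π x
    have h1 : oneSt π x = NormSeq24.germP π hx 1 := by
      refine Eq.trans ?_ (congrArg _ (map_one (Y.presheaf.map (homOfLE (π.preimage_mono (le_top : V ≤ ⊤))).op).hom))
      exact (NormSeq24.germP_res π (le_top : V ≤ ⊤) hx 1).symm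
    rw [h1, NormSeq24.germP_smul, mul_one]
    rfl
  refine le_antisymm ?_ ?_
  · rintro _ ⟨v, rfl⟩
    obtain ⟨V, hx, c, rfl⟩ := exists_germP_eq (DCoh.toP.obj (Coh.structureModule X)) v
    exact ⟨_, (hval V hx c).symm⟩
  · rintro _ ⟨c, rfl⟩
    obtain ⟨V, hx, c, rfl⟩ := X.presheaf.exists_germ_eq c
    exact ⟨_, hval V hx c⟩

include hdim hnod hU hUd in
theorem oneMap_injective (hUiso : IsIso (π ∣_ U)) (x : X) : Function.Injective (oneMap π x) := by
  haveI := isReduced_X k hnod
  haveI := hUiso
  haveI := CurveRR24.isLocallyNoetherian_of_proper k (X := X)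
  refine (injective_iff_map_eq_zero _).2 fun c hc => ?_
  obtain ⟨V, hxV, c, rfl⟩ := X.presheaf.exists_germ_eq c
  have h2 : NormSeq24.germP π hxV (π.app V c) = 0 := by
    refine Eq.trans ?_ hc
    show _ = X.presheaf.germ V x hxV c • oneSt π x
    have h1 : oneSt π x = NormSeq24.germP π hxV 1 := by
      refine Eq.trans ?_ (congrArg _ (map_one (Y.presheaf.map (homOfLE (π.preimage_mono (le_top : V ≤ ⊤))).op).hom))
      exact (NormSeq24.germP_res π (le_top : V ≤ ⊤) hxV 1).symm
    rw [h1, NormSeq24.germP_smul, mul_one]
  obtain ⟨W, hW, -, hxW, e⟩ := NormSeq24.germP_eq π hxV _ 0 (h2.trans (map_zero _).symm)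
  rw [map_zero, ← NormSeq24.app_res π hW] at e
  rw [← TopCat.Presheaf.germ_res_apply X.presheaf (homOfLE hW) x hxW,
    (injective_iff_map_eq_zero _).1 (NormSeq24.app_injective π (dense_U k hdim hnod hU) W) _ e, map_zero]

include hdim hnod hU hUd in
theorem length_quot_oneMap (hUiso : IsIso (π ∣_ U)) {x : X} (hx : Curv2.IsNode k X x) :
    Module.length (X.presheaf.stalk x) (St (pushO π) x ⧸ LinearMap.range (oneMap π x)) = 1 := by
  haveI := isReduced_X k hnod
  haveI := hUiso
  haveI := CurveRR24.isLocallyNoetherian_of_proper k (X := X)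
  haveI : CompactSpace X := QuasiCompact.compactSpace_of_compactSpace (X ↘ Spec (CommRingCat.of k))
  haveI : AlgebraicGeometry.IsNoetherian X := {}
  have hN := isNormal_Y k π
  haveI := NormSeq24.isReduced_of_isNormalScheme hN
  rw [← NormSeq24.deltaInv_of_isNode k X (components_dim_one X hdim) hx,
    ← NormSeq24.length_stalk_cokernel π (dense_U k hdim hnod hU) hUd hN x]
  let u := ClSub.unitToPush π
  let F := DerSch.stalkFunctor X x
  let S := ShortComplex.mk u (cokernel.π u) (cokernel.condition u)
  have hS : S.Exact := S.exact_of_g_is_cokernel (cokernelIsCokernel u)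
  have hF := (hS.map F).moduleCat_range_eq_ker
  haveI : Epi (F.map (cokernel.π u)) := inferInstance
  have hsurj : Function.Surjective (F.map (cokernel.π u)) := (ModuleCat.epi_iff_surjective _).1 inferInstance
  refine (((F.map (cokernel.π u)).hom.quotKerEquivOfSurjective hsurj).symm.trans
    (Submodule.quotEquivOfEq _ _ ?_)).length_eq.symm
  rw [show LinearMap.ker (F.map (cokernel.π u)).hom = LinearMap.range (F.map u).hom from hF.symm]
  exact range_unitToPush π x

end Groth.Agent.TFNodal7
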