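import Mathlib

/-!
# A birational extension of colength one over a local ring with two-dimensional cotangent space
-/

set_option autoImplicit false
set_option linter.style.haveILetI false

universe u

open IsLocalRing
open scoped TensorProduct

namespace Groth.Agent.TFNodal7

variable {A : Type u} [CommRing A] [IsLocalRing A] [IsNoetherianRing A] {M : Type u} [AddCommGroup M] [Module A M]
  (φ : A →ₗ[A] M)

theorem smul_mem_range_of_length_one (hlen : Module.length A (M ⧸ LinearMap.range φ) = 1) {r : A}
    (hr : r ∈ maximalIdeal A) (w : M) : r • w ∈ LinearMap.range φ := by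
  haveI := Module.length_eq_one_iff.1 hlen
  have hmax := IsSimpleModule.annihilator_isMaximal (R := A) (M := M ⧸ LinearMap.range φ)
  rw [← eq_maximalIdeal hmax, Module.mem_annihilator] at hr
  exact (Submodule.Quotient.mk_eq_zero _).1 ((Submodule.Quotient.mk_smul _ r w).trans (hr _))

variable (hφ : Function.Injective φ) (hlen : Module.length A (M ⧸ LinearMap.range φ) = 1)
  (hcot : Module.finrank (ResidueField A) (CotangentSpace A) = 2)

include hφ hlen hcot in
/-- `m M` is the image of `m`. -/
theorem smul_top_eq [Module.Finite A M] :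
    maximalIdeal A • (⊤ : Submodule A M) = Submodule.map φ (maximalIdeal A) := by
  have hle : maximalIdeal A • (⊤ : Submodule A M) ≤ LinearMap.range φ :=
    Submodule.smul_le.2 fun r hr w _ => smul_mem_range_of_length_one φ hlen hr w
  refine le_antisymm ?_ ?_
  · rintro z hz
    obtain ⟨c, rfl⟩ := hle hz
    refine ⟨c, ?_, rfl⟩
    by_contra hc
    have hc' : IsUnit c := by
      by_contra h; exact hc ((mem_maximalIdeal c).2 h)
    -- then `φ 1 ∈ mM`, so `range φ = mM` and `M` is cyclic
    have h1 : φ 1 ∈ maximalIdeal A • (⊤ : Submodule A M) := by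
      have : φ 1 = (↑hc'.unit⁻¹ : A) • φ c := by rw [← map_smul, smul_eq_mul, IsUnit.val_inv_mul]
      rw [this]; exact Submodule.smul_mem _ _ hz
    have hrange : LinearMap.range φ = maximalIdeal A • (⊤ : Submodule A M) := by
      refine le_antisymm ?_ hle
      rintro _ ⟨d, rfl⟩
      rw [← mul_one d, ← smul_eq_mul, map_smul]
      exact Submodule.smul_mem _ _ h1
    haveI := Module.length_eq_one_iff.1 hlen
    haveI := IsSimpleModule.nontrivial A (M ⧸ LinearMap.range φ)
    obtain ⟨w', hw'⟩ := exists_ne (0 : M ⧸ LinearMap.range φ)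
    obtain ⟨w, rfl⟩ := Submodule.Quotient.mk_surjective _ w'
    have hspan : Submodule.span A {w} = ⊤ := by
      refine top_le_iff.1 (Submodule.le_of_le_smul_of_le_jacobson_bot (I := maximalIdeal A) (N' := ⊤)
        Module.Finite.fg_top (maximalIdeal_le_jacobson _) ?_)
      rintro y -
      obtain ⟨r, hr⟩ := IsSimpleModule.toSpanSingleton_surjective A hw' (Submodule.Quotient.mk y)
      rw [LinearMap.toSpanSingleton_apply, ← Submodule.Quotient.mk_smul, Submodule.Quotient.eq, hrange] at hr
      refine Submodule.mem_sup.2 ⟨r • w, Submodule.smul_mem _ _ (Submodule.mem_span_singleton_self w),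
        -(r • w - y), Submodule.neg_mem _ hr, by abel⟩
    obtain ⟨a, ha⟩ := Submodule.mem_span_singleton.1 (hspan ▸ trivial : φ 1 ∈ Submodule.span A {w})
    have hann : ∀ r : A, r • w = 0 → r = 0 := fun r h => by
      refine hφ ?_
      rw [map_zero, ← mul_one r, ← smul_eq_mul, map_smul, ← ha, smul_comm, h, smul_zero]
    have ha' : a ∈ maximalIdeal A := by
      by_contra h
      have hu : IsUnit a := by by_contra h'; exact h ((mem_maximalIdeal a).2 h')
      refine hw' ((Submodule.Quotient.mk_eq_zero _).2 ⟨↑hu.unit⁻¹, ?_⟩)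
      rw [← mul_one (↑hu.unit⁻¹ : A), ← smul_eq_mul, map_smul, ← ha, smul_smul, IsUnit.val_inv_mul, one_smul]
    have hprin : maximalIdeal A = Ideal.span {a} := by
      refine le_antisymm (fun r hr => ?_) ((Ideal.span_singleton_le_iff_mem _).2 ha')
      obtain ⟨d, hd⟩ := smul_mem_range_of_length_one φ hlen hr w
      rw [← mul_one d, ← smul_eq_mul, map_smul, ← ha, smul_smul, ← sub_eq_zero, ← sub_smul] at hd
      exact Ideal.mem_span_singleton'.2 ⟨d, sub_eq_zero.1 (hann _ hd)⟩
    have h2 := (IsLocalRing.finrank_cotangentSpace_le_one_iff (R := A)).2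
      ⟨⟨a, hprin.trans (Ideal.submodule_span_eq).symm⟩⟩
    omega
  · rintro _ ⟨c, hc, rfl⟩
    rw [← mul_one c, ← smul_eq_mul, map_smul]
    exact Submodule.smul_mem_smul hc trivial

/-- The length of `m / m^2`. -/
theorem length_cotangent (hcot : Module.finrank (ResidueField A) (CotangentSpace A) = 2) :
    Module.length A (CotangentSpace A) = 2 := by
  rw [Module.length_eq_of_surjective (R := ResidueField A) IsLocalRing.residue_surjective,
    Module.length_eq_finrank, hcot]
  rfl

variable (a b : ℕ)

/-- The module `A^a × m^b`. -/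
abbrev Model : Type u := (Fin a → A) × (Fin b → maximalIdeal A)

/-- The map `F ⊗ M → M^a × M^b`. -/
noncomputable def proj : Model (A := A) a b ⊗[A] M →ₗ[A] (Fin a → M) × (Fin b → M) :=
  TensorProduct.lift (LinearMap.mk₂ A (fun v w => (fun i => v.1 i • w, fun i => (v.2 i : A) • w))
    (fun v v' w => by ext i <;> simp [add_smul])
    (fun r v w => by ext i <;> simp [mul_smul])
    (fun v w w' => by ext i <;> simp)
    (fun r v w => by ext i <;> simp [smul_comm r]))

omit [IsNoetherianRing A] in
theorem proj_tmul (v : Model (A := A) a b) (w : M) :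
    proj a b (v ⊗ₜ[A] w) = (fun i => v.1 i • w, fun i => (v.2 i : A) • w) := rfl

include hφ in
omit [IsNoetherianRing A] in
theorem tmul_one_injective : Function.Injective fun v : Model (A := A) a b => v ⊗ₜ[A] φ 1 := by
  intro v v' h
  have h' := congrArg (proj a b) h
  simp only [proj_tmul, Prod.mk.injEq, funext_iff, ← map_smul, smul_eq_mul, mul_one] at h'
  exact Prod.ext (funext fun i => hφ (h'.1 i)) (funext fun i => Subtype.ext (hφ (h'.2 i)))

/-- A regular element of `m` kills the kernel of the projection. -/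
theorem smul_eq_zero_of_proj {t : A} (ht : t ∈ maximalIdeal A) {z : Model (A := A) a b ⊗[A] M}
    (hz : proj a b z = 0) : t • z = 0 := by
  classical
  let L : (Fin a → M) × (Fin b → M) → Model (A := A) a b ⊗[A] M := fun p =>
    ∑ i, ((Pi.single i t, 0) : Model (A := A) a b) ⊗ₜ[A] p.1 i +
      ∑ i, ((0, Pi.single i ⟨t, ht⟩) : Model (A := A) a b) ⊗ₜ[A] p.2 i
  have hadd : ∀ p q, L (p + q) = L p + L q := fun p q => by
    simp only [L, Prod.fst_add, Prod.snd_add, Pi.add_apply, TensorProduct.tmul_add, Finset.sum_add_distrib]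
    abel
  have key : ∀ z, L (proj a b z) = t • z := fun z => by
    induction z using TensorProduct.induction_on with
    | zero => simp [L]
    | tmul v w =>
      simp only [proj_tmul, L, ← TensorProduct.smul_tmul, ← TensorProduct.sum_tmul, ← TensorProduct.add_tmul]
      rw [TensorProduct.smul_tmul']
      congr 1
      ext i
      · simp [Finset.sum_apply, Prod.fst_sum, Pi.single_apply, mul_comm]
      · simp [Finset.sum_apply, Prod.snd_sum, Pi.single_apply, mul_comm]
    | add x y hx hy => rw [map_add, hadd, hx, hy, smul_add]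
  rw [← key, hz]
  simp [L]

include hlen hcot in
/-- The cokernel of `F → F ⊗ M` has the length of `F / m F`. -/
theorem length_quot_tmul_one :
    Module.length A ((Model (A := A) a b ⊗[A] M) ⧸ LinearMap.range
      ((TensorProduct.mk A (Model (A := A) a b) M).flip (φ 1))) = (a : ℕ∞) + 2 * (b : ℕ∞) := by
  let F := Model (A := A) a b
  haveI := Module.length_eq_one_iff.1 hlen
  obtain ⟨I, hI, ⟨e⟩⟩ := isSimpleModule_iff_quot_maximal.1 (inferInstance : IsSimpleModule A (M ⧸ LinearMap.range φ))
  obtain rfl := eq_maximalIdeal hI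
  have hr : LinearMap.range ((TensorProduct.mk A F M).flip (φ 1)) = LinearMap.range (LinearMap.lTensor F φ) := by
    refine le_antisymm ?_ ?_
    · rintro _ ⟨v, rfl⟩; exact ⟨v ⊗ₜ 1, rfl⟩
    · rintro _ ⟨z, rfl⟩
      induction z using TensorProduct.induction_on with
      | zero => simp
      | tmul v c =>
        refine ⟨c • v, ?_⟩
        show (c • v) ⊗ₜ[A] φ 1 = v ⊗ₜ[A] φ c
        rw [TensorProduct.smul_tmul, ← map_smul, smul_eq_mul, mul_one]
      | add x y hx hy => rw [map_add]; exact add_mem hx hy
  rw [hr]
  rw [((lTensor.equiv F (f := φ) (g := (LinearMap.range φ).mkQ) (LinearMap.exact_map_mkQ_range φ)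
    (Submodule.mkQ_surjective _)).trans ((TensorProduct.congr (LinearEquiv.refl A F) e).trans
      ((TensorProduct.prodLeft A A (Fin a → A) (Fin b → maximalIdeal A) (A ⧸ maximalIdeal A))))).length_eq,
    Module.length_prod]
  have h1 : Module.length A ((Fin a → A) ⊗[A] (A ⧸ maximalIdeal A)) = (a : ℕ∞) := by
    rw [((TensorProduct.comm A _ _).trans (TensorProduct.piScalarRight A A (A ⧸ maximalIdeal A) (Fin a))).length_eq,
      Module.length_pi, ← e.length_eq, hlen, mul_one]
    simp
  have h2 : Module.length A ((Fin b → maximalIdeal A) ⊗[A] (A ⧸ maximalIdeal A)) = (b : ℕ∞) * 2 := by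
    rw [((TensorProduct.comm A _ _).trans ((TensorProduct.piRight A A (A ⧸ maximalIdeal A) fun _ : Fin b => maximalIdeal A).trans
      (LinearEquiv.piCongrRight fun _ => (TensorProduct.comm A _ _).trans
        (TensorProduct.tensorQuotEquivQuotSMul (maximalIdeal A) (maximalIdeal A))))).length_eq,
      Module.length_pi]
    congr 1
    · simp
    · exact length_cotangent hcot
  rw [h1, h2, mul_comm 2]

include hφ hlen hcot in
/-- The image of `F ⊗ M` modulo torsion, modulo `F`, has length `a`. -/
theorem length_quot_comp [Module.Finite A M] {P : Type u} [AddCommGroup P] [Module A P]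
    (h : Model (A := A) a b ⊗[A] M →ₗ[A] P) (hh : Function.Surjective h)
    (hker : LinearMap.ker h = LinearMap.ker (proj (A := A) (M := M) a b)) :
    Module.length A (P ⧸ LinearMap.range (h.comp ((TensorProduct.mk A (Model (A := A) a b) M).flip (φ 1)))) =
      (a : ℕ∞) := by
  classical
  let F := Model (A := A) a b
  let J := LinearMap.range ((TensorProduct.mk A F M).flip (φ 1))
  let ψ : F ⊗[A] M →ₗ[A] (Fin a → M ⧸ LinearMap.range φ) :=
    (LinearMap.pi fun i => (LinearMap.range φ).mkQ.comp (LinearMap.proj i)).comp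
      ((LinearMap.fst A _ _).comp (proj a b))
  have hψ : Function.Surjective ψ := by
    intro y
    choose w hw using fun i => Submodule.Quotient.mk_surjective _ (y i)
    refine ⟨∑ i, ((Pi.single i 1, 0) : F) ⊗ₜ[A] w i, funext fun j => ?_⟩
    simp [ψ, F, map_sum, proj_tmul, Finset.sum_apply, Pi.single_apply, hw, apply_ite]
  have hsnd : ∀ (z : F ⊗[A] M) (i : Fin b), (proj a b z).2 i ∈ maximalIdeal A • (⊤ : Submodule A M) := by
    intro z i
    induction z using TensorProduct.induction_on with
    | zero => simp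
    | tmul v w => exact Submodule.smul_mem_smul (v.2 i).2 trivial
    | add x y hx hy => rw [map_add]; exact Submodule.add_mem _ hx hy
  have hk : LinearMap.ker ψ = J ⊔ LinearMap.ker h := by
    refine le_antisymm (fun z hz => ?_) (sup_le ?_ ?_)
    · have hz' : ∀ i, (proj a b z).1 i ∈ LinearMap.range φ := fun i =>
        (Submodule.Quotient.mk_eq_zero _).1 (congrFun hz i)
      choose c hc using hz'
      have hz'' : ∀ i, ∃ d : maximalIdeal A, φ d = (proj a b z).2 i := fun i => by
        have := hsnd z i
        rw [smul_top_eq φ hφ hlen hcot] at this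
        obtain ⟨d, hd, he⟩ := this
        exact ⟨⟨d, hd⟩, he⟩
      choose d hd using hz''
      refine Submodule.mem_sup.2 ⟨(c, d) ⊗ₜ φ 1, ⟨(c, d), rfl⟩, z - (c, d) ⊗ₜ φ 1, ?_, by abel⟩
      rw [hker, LinearMap.mem_ker, map_sub, proj_tmul, sub_eq_zero]
      refine Prod.ext (funext fun i => ?_) (funext fun i => ?_)
      · dsimp only; rw [← map_smul, smul_eq_mul, mul_one, hc i]
      · dsimp only; rw [← map_smul, smul_eq_mul, mul_one, hd i]
    · rintro _ ⟨v, rfl⟩
      refine funext fun i => (Submodule.Quotient.mk_eq_zero _).2 ⟨v.1 i, ?_⟩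
      show φ (v.1 i) = v.1 i • φ 1
      rw [← map_smul, smul_eq_mul, mul_one]
    · rw [hker]
      intro z hz
      rw [LinearMap.mem_ker] at hz
      show ψ z = 0
      simp [ψ, hz]
  let q := (LinearMap.range (h.comp ((TensorProduct.mk A F M).flip (φ 1)))).mkQ.comp h
  have hq : LinearMap.ker q = J ⊔ LinearMap.ker h := by
    rw [LinearMap.ker_comp, Submodule.ker_mkQ, LinearMap.range_comp, Submodule.comap_map_eq]
  rw [← (LinearMap.quotKerEquivOfSurjective q ((Submodule.mkQ_surjective _).comp hh)).length_eq,
    ((Submodule.quotEquivOfEq _ _ (hq.trans hk.symm)).trans (ψ.quotKerEquivOfSurjective hψ)).length_eq,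
    Module.length_pi, hlen, mul_one]
  simp

end Groth.Agent.TFNodal7
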