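import Groth.Agent.Coherent.TensorSections
import Groth.Agent.Coherent.PullUnit
import Groth.Agent.Coherent.QcohOps
import Groth.Agent.AmpleLib.CounitEpi
import Groth.Agent.DCat.PullTensor
import Groth.Agent.ArtFunLib.QuotLift.StalkUnit

/-!
# `π_* π^* F ≅ F ⊗ π_* O` for an affine morphism, and the stalks of the unit
-/

set_option autoImplicit false
set_option linter.style.haveILetI false
set_option backward.isDefEq.respectTransparency false
set_option maxHeartbeats 1000000

universe u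

open CategoryTheory CategoryTheory.Limits AlgebraicGeometry Opposite TopologicalSpace
open Groth.Agent.Coherent Groth.Agent.PicLib Groth.Agent.AmpleLib Groth.Agent.ModStalk
open Groth.Agent.EGA43.InjFibre Groth.Agent.ArtFunLib.QuotLift
open scoped TensorProduct

noncomputable section

namespace Groth.Agent.TFNodal7

variable {X Y : Scheme.{u}} (π : Y ⟶ X)

/-- `π_* O`. -/
abbrev pushO : X.Modules := (Scheme.Modules.pushforward π).obj (Coh.structureModule Y)

/-- `π_* π^* F`. -/
abbrev pushPull (F : X.Modules) : X.Modules :=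
  (Scheme.Modules.pushforward π).obj ((Scheme.Modules.pullback π).obj F)

/-- `(a, s) ↦ s • π^* a`. -/
def thetaBilin (F : X.Modules) : Bilin F (pushO π) (pushPull π F) where
  app U a s := (show Γ((Scheme.Modules.pullback π).obj F, π ⁻¹ᵁ U) from (show Γ(Y, π ⁻¹ᵁ U) from s) • pullSec π a)
  add_left U a a' s := by
    show (show Γ(Y, π ⁻¹ᵁ U) from s) • pullSec π (a + a') =
      (show Γ(Y, π ⁻¹ᵁ U) from s) • pullSec π a + (show Γ(Y, π ⁻¹ᵁ U) from s) • pullSec π a'
    rw [show pullSec π (a + a') = pullSec π a + pullSec π a' from map_add _ _ _, smul_add]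
  add_right U a s s' := add_smul (show Γ(Y, π ⁻¹ᵁ U) from s) (show Γ(Y, π ⁻¹ᵁ U) from s') (pullSec π a)
  smul_left U r a s := by
    show (show Γ(Y, π ⁻¹ᵁ U) from s) • pullSec π (r • a) = π.app U r • ((show Γ(Y, π ⁻¹ᵁ U) from s) • pullSec π a)
    rw [pullSec_smul, smul_comm]
  smul_right U r a s := mul_smul (π.app U r) (show Γ(Y, π ⁻¹ᵁ U) from s) (pullSec π a)
  res U V h a s := by
    show resM _ (π.preimage_mono h) ((show Γ(Y, π ⁻¹ᵁ U) from s) • pullSec π a) = _
    rw [resM_smul, resM_pullSec π h]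
    rfl

/-- `F ⊗ π_* O ⟶ π_* π^* F`. -/
def theta (F : X.Modules) : CohB1.tensorMod F (pushO π) ⟶ pushPull π F := (thetaBilin π F).desc

theorem theta_tmul (F : X.Modules) (U : X.Opens) (a : Γ(F, U)) (s : Γ(Y, π ⁻¹ᵁ U)) :
    (theta π F).app U (tmul a (show Γ(pushO π, U) from s)) =
      (show Γ(pushPull π F, U) from s • pullSec π a) :=
  Bilin.desc_tmul _ U a _

variable [IsAffineHom π]

theorem bijective_theta_app (F : X.Modules) [Coh.IsQCoh F] {V : X.Opens} (hV : IsAffineOpen V) :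
    Function.Bijective ((theta π F).app V) := by
  haveI : Coh.IsQCoh (Coh.structureModule Y) := isQCoh_structureModule (X := Y)
  haveI : Coh.IsQCoh (pushO π) := isQCoh_push π _
  let hV' := hV.preimage π
  let _ := (π.appLE V (π ⁻¹ᵁ V) le_rfl).hom.toAlgebra
  let _ := Module.compHom Γ((Scheme.Modules.pullback π).obj F, π ⁻¹ᵁ V) (π.appLE V (π ⁻¹ᵁ V) le_rfl).hom
  have : IsScalarTower Γ(X, V) Γ(Y, π ⁻¹ᵁ V) Γ((Scheme.Modules.pullback π).obj F, π ⁻¹ᵁ V) :=
    IsScalarTower.of_algebraMap_smul fun _ _ => rfl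
  obtain ⟨μ, hμ, hμm⟩ := pullMap_isBaseChange π hV hV' le_rfl F
  refine (Function.Bijective.of_comp_iff _ (bijective_tmulMap hV F (pushO π))).1 ?_
  have happ : (π.appLE V (π ⁻¹ᵁ V) le_rfl).hom = (π.app V).hom := by
    rw [← Scheme.Hom.appLE_eq_app]
  let es : Γ(pushO π, V) ≃ₗ[Γ(X, V)] Γ(Y, π ⁻¹ᵁ V) :=
    { toFun := fun s => (show Γ(Y, π ⁻¹ᵁ V) from s)
      invFun := fun s => (show Γ(pushO π, V) from s)
      left_inv := fun _ => rfl
      right_inv := fun _ => rfl
      map_add' := fun _ _ => rfl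
      map_smul' := fun r s => by
        show (π.app V).hom r * (show Γ(Y, π ⁻¹ᵁ V) from s) = r • (show Γ(Y, π ⁻¹ᵁ V) from s)
        rw [Algebra.smul_def, RingHom.algebraMap_toAlgebra, happ] }
  let c := ((TensorProduct.comm Γ(X, V) Γ(F, V) Γ(pushO π, V)).trans
    (TensorProduct.congr es (LinearEquiv.refl Γ(X, V) Γ(F, V))))
  have hc : Function.Bijective c := c.bijective
  refine (congrArg Function.Bijective (funext fun z => ?_)).mpr (hμ.equiv.bijective.comp hc)
  show (theta π F).app V (tmulMap F (pushO π) V z) = hμ.equiv (c z)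
  induction z using TensorProduct.induction_on with
  | zero => simp only [map_zero]
  | tmul a s =>
    show (theta π F).app V (tmul a s) = hμ.equiv ((show Γ(Y, π ⁻¹ᵁ V) from s) ⊗ₜ a)
    rw [IsBaseChange.equiv_tmul, hμm, pullMap_eq_resM_pullSec, resM_refl]
    exact theta_tmul π F V a _
  | add a b ha hb => simp only [map_add] at ha hb ⊢; rw [ha, hb]

theorem isIso_theta (F : X.Modules) [Coh.IsQCoh F] : IsIso (theta π F) := by
  refine TwistLib.G.isIso_of_bijective_on_basis _ (fun V => IsAffineOpen V) (fun V x hx => ?_)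
    fun V hV => bijective_theta_app π F hV
  obtain ⟨W, hW, hxW, hWV⟩ := exists_isAffineOpen_mem_and_subset (x := x) (U := V) hx
  exact ⟨W, hW, hxW, hWV⟩

/-- The germ of `1`. -/
def oneSt (x : X) : St (pushO π) x :=
  germP x (DCoh.toP.obj (pushO π)) ⊤ trivial (show Γ(pushO π, (⊤ : X.Opens)) from (1 : Γ(Y, π ⁻¹ᵁ ⊤)))

/-- The stalk of `π_* π^* F` is `F_x ⊗ (π_* O)_x`, the unit being `v ↦ v ⊗ 1`. -/
theorem exists_stalk_equiv (F : X.Modules) [Coh.IsQCoh F] (x : X) :
    ∃ e : (St F x) ⊗[X.presheaf.stalk x] (St (pushO π) x) ≃ₗ[X.presheaf.stalk x] St (pushPull π F) x,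
      ∀ v, e (v ⊗ₜ oneSt π x) = stk ((Scheme.Modules.pullbackPushforwardAdjunction π).unit.app F) x v := by
  haveI := isIso_theta π F
  haveI : IsIso ((DerSch.stalkFunctor X x).map (theta π F)) := inferInstance
  let e₁ := (stalkTensorIso x F (pushO π)).symm.toLinearEquiv
  let e₂ := (asIso ((DerSch.stalkFunctor X x).map (theta π F))).toLinearEquiv
  refine ⟨e₁.trans e₂, fun v => ?_⟩
  obtain ⟨U, hxU, a, rfl⟩ := exists_germP_eq (DCoh.toP.obj F) v
  have h1 : oneSt π x = germP x (DCoh.toP.obj (pushO π)) U hxU (show Γ(pushO π, U) from (1 : Γ(Y, π ⁻¹ᵁ U))) := by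
    refine Eq.trans ?_ (congrArg _ (map_one (Y.presheaf.map (homOfLE (π.preimage_mono (le_top : U ≤ ⊤))).op).hom))
    exact (germP_res (DCoh.toP.obj (pushO π)) (homOfLE (le_top : U ≤ ⊤)) hxU _).symm
  let b : Γ(pushO π, U) := (show Γ(Y, π ⁻¹ᵁ U) from 1)
  have h2 : (stalkTensorIso x F (pushO π)).inv
      (germP x (DCoh.toP.obj F) U hxU a ⊗ₜ[X.presheaf.stalk x] germP x (DCoh.toP.obj (pushO π)) U hxU b) =
      germP x (DCoh.toP.obj (CohB1.tensorMod F (pushO π))) U hxU (tmul a b) :=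
    (congrArg (stalkTensorIso x F (pushO π)).inv (DCat.PullTensor.stalkTensor_germ x F (pushO π) U hxU a b).symm).trans
      (Iso.hom_inv_id_apply (stalkTensorIso x F (pushO π)) _)
  rw [h1]
  refine (congrArg (fun z => (DerSch.stalkFunctor X x).map (theta π F) z) h2).trans ?_
  refine (DCat.PullTensor.stalkMap_germP _ x U hxU _).trans ?_
  have h3 := DCat.PullTensor.stalkMap_germP ((Scheme.Modules.pullbackPushforwardAdjunction π).unit.app F) x U hxU a
  have h4 : (theta π F).app U (tmul a b) =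
      ((Scheme.Modules.pullbackPushforwardAdjunction π).unit.app F).app U a :=
    (theta_tmul π F U a 1).trans (one_smul Γ(Y, π ⁻¹ᵁ U) (pullSec π a))
  refine (congrArg (germP x (DCoh.toP.obj (pushPull π F)) U hxU) h4).trans ?_
  exact h3.symm

end Groth.Agent.TFNodal7
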