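import Groth.Agent.TFNodal7.Node
import Groth.Agent.TFNodal7.NodeModule
import Groth.Agent.Props12.FinLocFree
import Groth.Agent.VarietyLib.DegBasic
import Groth.Agent.FlatMor12.FittSheaf
import Groth.Agent.EGA43.InjFibre.Restriction

/-!
# Stalks of the adjunction maps of a normalisation of a nodal curve
-/

set_option autoImplicit false
set_option linter.style.haveILetI false
set_option backward.isDefEq.respectTransparency false
set_option maxHeartbeats 1000000

universe u

open CategoryTheory CategoryTheory.Limits AlgebraicGeometry Opposite TopologicalSpace IsLocalRing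
open Groth.Agent.Coherent Groth.Agent.ModStalk Groth.Agent.ArtFunLib.QuotLift Groth.Agent.PicLib
open scoped TensorProduct

noncomputable section

namespace Groth.Agent.TFNodal7

section General

variable {X Y : Scheme.{u}} (π : Y ⟶ X)

/-- The germ of a section upstairs in the stalk of the direct image. -/
abbrev pGerm (E : Y.Modules) {x : X} {V : X.Opens} (hx : x ∈ V) (s : Γ(E, π ⁻¹ᵁ V)) :
    St ((Scheme.Modules.pushforward π).obj E) x :=
  germP x (DCoh.toP.obj ((Scheme.Modules.pushforward π).obj E)) V hx (show Γ((Scheme.Modules.pushforward π).obj E, V) from s)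

theorem pGerm_res (E : Y.Modules) {x : X} {V W : X.Opens} (h : W ≤ V) (hx : x ∈ W) (s : Γ(E, π ⁻¹ᵁ V)) :
    pGerm π E hx (resM E (π.preimage_mono h) s) = pGerm π E (h hx) s :=
  germP_res (DCoh.toP.obj ((Scheme.Modules.pushforward π).obj E)) (homOfLE h) hx _

theorem exists_pGerm (E : Y.Modules) {x : X} (z : St ((Scheme.Modules.pushforward π).obj E) x) {O : X.Opens}
    (hx : x ∈ O) : ∃ (V : X.Opens), V ≤ O ∧ IsAffineOpen V ∧ ∃ (hxV : x ∈ V) (s : Γ(E, π ⁻¹ᵁ V)),
      pGerm π E hxV s = z := by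
  obtain ⟨W, hxW, s, rfl⟩ := exists_germP_eq (DCoh.toP.obj ((Scheme.Modules.pushforward π).obj E)) z
  obtain ⟨V, hV, hxV, hVW⟩ := exists_isAffineOpen_mem_and_subset (x := x) (U := O ⊓ W) ⟨hx, hxW⟩
  replace hVW : V ≤ O ⊓ W := hVW
  exact ⟨V, hVW.trans inf_le_left, hV, hxV, _, pGerm_res π E (hVW.trans inf_le_right) hxV s⟩

theorem pGerm_eq_zero (E : Y.Modules) {x : X} {V : X.Opens} (hx : x ∈ V) (s : Γ(E, π ⁻¹ᵁ V))
    (h : pGerm π E hx s = 0) :
    ∃ (W : X.Opens) (hW : W ≤ V), IsAffineOpen W ∧ x ∈ W ∧ resM E (π.preimage_mono hW) s = 0 := by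
  obtain ⟨W, hxW, i, j, e⟩ := germP_eq_iff (x := x) (DCoh.toP.obj ((Scheme.Modules.pushforward π).obj E))
    (U := V) (V := V) hx hx _ 0 (h.trans (germP_zero _ _ _).symm)
  obtain ⟨W', hW', hxW', hle⟩ := exists_isAffineOpen_mem_and_subset (x := x) (U := W) hxW
  replace hle : W' ≤ W := hle
  refine ⟨W', hle.trans i.le, hW', hxW', ?_⟩
  have e' : resM E (π.preimage_mono i.le) s = 0 := e.trans (map_zero _)
  rw [← resM_resM E (π.preimage_mono i.le) (π.preimage_mono hle), e', map_zero]

theorem stk_push_pGerm {E E' : Y.Modules} (v : E ⟶ E') {x : X} {V : X.Opens} (hx : x ∈ V) (s : Γ(E, π ⁻¹ᵁ V)) :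
    stk ((Scheme.Modules.pushforward π).map v) x (pGerm π E hx s) = pGerm π E' hx (v.app (π ⁻¹ᵁ V) s) :=
  DCat.PullTensor.stalkMap_germP _ x V hx _

theorem smul_pGerm (E : Y.Modules) {x : X} {V : X.Opens} (hx : x ∈ V) (c : Γ(X, V)) (s : Γ(E, π ⁻¹ᵁ V)) :
    X.presheaf.germ V x hx c • pGerm π E hx s = pGerm π E hx (π.app V c • s) :=
  (ModStalk.germP_smul (x := x) (DCoh.toP.obj ((Scheme.Modules.pushforward π).obj E)) V hx c _).symm

/-- Sections vanishing at all points upstairs. -/
theorem stk_push_injective {E E' : Y.Modules} (v : E ⟶ E') {x : X} {O : X.Opens} (hxO : x ∈ O)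
    (h : ∀ y ∈ π ⁻¹ᵁ O, Function.Injective (stk v y)) :
    Function.Injective (stk ((Scheme.Modules.pushforward π).map v) x) := by
  refine (injective_iff_map_eq_zero _).2 fun z hz => ?_
  obtain ⟨V, hVO, -, hxV, s, rfl⟩ := exists_pGerm π E z hxO
  rw [stk_push_pGerm] at hz
  obtain ⟨W, hW, -, hxW, e⟩ := pGerm_eq_zero π E' hxV _ hz
  have hs : resM E (π.preimage_mono hW) s = 0 := EGA43.InjFibre.eq_zero_of_germ E _ fun y hy => by
    refine h y (π.preimage_mono (hW.trans hVO) hy) ?_
    refine (Coherent.stalk_map_germ v hy _).trans ?_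
    refine (congrArg (E'.presheaf.germ (π ⁻¹ᵁ W) y hy) ((app_resM v (π.preimage_mono hW) s).trans e)).trans ?_
    exact (map_zero _).trans (map_zero _).symm
  rw [← pGerm_res π E hW hxW, hs]
  exact germP_zero _ _ _

variable [IsAffineHom π]

theorem stk_push_surjective {E E' : Y.Modules} [Coh.IsQCoh E] [Coh.IsQCoh E'] (v : E ⟶ E') [Epi v] (x : X) :
    Function.Surjective (stk ((Scheme.Modules.pushforward π).map v) x) := fun z => by
  obtain ⟨V, -, hV, hxV, s, rfl⟩ := exists_pGerm π E' z (show x ∈ (⊤ : X.Opens) from trivial)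
  obtain ⟨r, hr⟩ := FlatMor12.FittSheaf.surjective_app_of_epi' v (hV.preimage π) s
  exact ⟨pGerm π E hxV r, by rw [stk_push_pGerm, hr]⟩

end General

variable (k : Type u) [Field k] [IsAlgClosed k] {X : Scheme.{u}} [X.Over (Spec (CommRingCat.of k))]
  [IsProper (X ↘ Spec (CommRingCat.of k))] [ConnectedSpace X] (hdim : topologicalKrullDim X = 1)
  (hnod : Curv2.AtWorstNodal k X) {Y : Scheme.{u}} (π : Y ⟶ X) [IsFinite π]
  [Smooth (π ≫ (X ↘ Spec (CommRingCat.of k)))] {U : X.Opens}
  (hU : ∀ x : X, x ∈ U ↔ ¬ Curv2.IsNode k X x) (hUiso : IsIso (π ∣_ U))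
  (hUd : Dense ((π ⁻¹ᵁ U : Y.Opens) : Set Y))

include k in
theorem finite_pushO (x : X) : Module.Finite (X.presheaf.stalk x) (St (pushO π) x) := by
  haveI := CurveRR24.isLocallyNoetherian_of_proper k (X := X)
  haveI : IsLocallyNoetherian Y := LocallyOfFiniteType.isLocallyNoetherian π
  have hC : Coh.IsCoh (pushO π) := isCoh_push_finite π (Coherent.isCoh_structureModule Y)
  exact Coherent.finite_stalk_of_isFT hC.1 hC.2 x

include hdim hnod hU hUiso hUd in
theorem oneMap_bijective {x : X} (hx : x ∈ U) : Function.Bijective (oneMap π x) := by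
  refine ⟨oneMap_injective k hdim hnod π hU hUd hUiso x, fun z => ?_⟩
  obtain ⟨V, hVU, -, hxV, s, rfl⟩ := exists_pGerm π (Coh.structureModule Y) z hx
  haveI := hUiso
  haveI := BlowUpLib.isIso_app_of_le π U hVU
  obtain ⟨c, hc⟩ := (ConcreteCategory.bijective_of_isIso (π.app V)).2 (show Γ(Y, π ⁻¹ᵁ V) from s)
  refine ⟨X.presheaf.germ V x hxV c, ?_⟩
  show X.presheaf.germ V x hxV c • oneSt π x = _
  rw [show oneSt π x = pGerm π (Coh.structureModule Y) hxV (show Γ(Coh.structureModule Y, π ⁻¹ᵁ V) from (1 : Γ(Y, π ⁻¹ᵁ V))) from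
    ((congrArg (pGerm π (Coh.structureModule Y) hxV)
      (map_one (Y.presheaf.map (homOfLE (π.preimage_mono (le_top : V ≤ ⊤))).op).hom)).symm.trans
      (pGerm_res π (Coh.structureModule Y) (le_top : V ≤ ⊤) hxV _)).symm, smul_pGerm]
  exact congrArg (pGerm π (Coh.structureModule Y) hxV) ((mul_one (π.app V c)).trans hc)

include hdim hnod hU hUiso hUd in
/-- The unit is bijective off the nodes. -/
theorem unit_bijective (F : X.Modules) [Coh.IsQCoh F] {x : X} (hx : x ∈ U) :
    Function.Bijective (stk ((Scheme.Modules.pullbackPushforwardAdjunction π).unit.app F) x) := by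
  obtain ⟨e, he⟩ := exists_stalk_equiv π F x
  let f := LinearEquiv.ofBijective (oneMap π x) (oneMap_bijective k hdim hnod π hU hUiso hUd hx)
  let g := (TensorProduct.rid (X.presheaf.stalk x) (St F x)).symm.trans
    ((TensorProduct.congr (LinearEquiv.refl _ _) f).trans e)
  refine (congrArg Function.Bijective (funext fun v => ?_)).mpr g.bijective
  refine (he v).symm.trans (congrArg e ?_)
  show v ⊗ₜ oneSt π x = v ⊗ₜ[X.presheaf.stalk x] (oneMap π x 1)
  rw [show oneMap π x 1 = oneSt π x from one_smul _ _]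

include hdim hnod hU in
/-- The data at a node. -/
theorem node_facts {x : X} (hx : Curv2.IsNode k X x) :
    IsNoetherianRing (X.presheaf.stalk x) ∧
      Module.finrank (ResidueField (X.presheaf.stalk x)) (CotangentSpace (X.presheaf.stalk x)) = 2 ∧
      ∃ t ∈ maximalIdeal (X.presheaf.stalk x), t ∈ nonZeroDivisors (X.presheaf.stalk x) := by
  haveI := NodeLib7.isNoetherianRing_stalk k X x
  obtain ⟨-, -, u, v, a, b, c, hd⟩ := (NodeLib7.isNode_iff k X x).1 hx
  obtain ⟨t, ht, htz⟩ := hd.reg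
  exact ⟨inferInstance, NodeLib7.finrank_cotangent_eq_two hd.span hd.indep, t, ht,
    mem_nonZeroDivisors_iff_left.2 htz⟩

include k hdim hnod hU hUiso hUd in
/-- Regular elements act injectively on direct images of locally free modules. -/
theorem eq_zero_of_smul {r : ℕ} {E : Y.Modules} (hE : FlatMod.IsFinLocFreeOfRank r E) {x : X}
    {t : X.presheaf.stalk x} (ht : t ∈ nonZeroDivisors (X.presheaf.stalk x))
    (z : St ((Scheme.Modules.pushforward π).obj E) x) (hz : t • z = 0) : z = 0 := by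
  haveI := isReduced_X k hnod
  haveI := hUiso
  haveI := CurveRR24.isLocallyNoetherian_of_proper k (X := X)
  have hN := isNormal_Y k π
  haveI := NormSeq24.isReduced_of_isNormalScheme hN
  haveI : Coh.IsQCoh E := LocFreeLib.isQCoh_of_isFinLocFreeOfRank hE
  obtain ⟨O, hxO, c, rfl⟩ := X.presheaf.exists_germ_eq t
  obtain ⟨V₀, hV₀, -, hxV₀, s, rfl⟩ := exists_pGerm π E z hxO
  rw [← TopCat.Presheaf.germ_res_apply X.presheaf (homOfLE hV₀) x hxV₀, smul_pGerm] at hz
  obtain ⟨W₀, hW₀, -, hxW₀, e⟩ := pGerm_eq_zero π E hxV₀ _ hz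
  obtain ⟨W, hW, hWaff, hxW, hcW⟩ := NormSeq24.exists_nhd_nzd hxW₀
    (X.presheaf.map (homOfLE (hW₀.trans hV₀)).op c) (by rwa [TopCat.Presheaf.germ_res_apply])
  rw [NormSeq24.res_res] at hcW
  have e' : π.app W (X.presheaf.map (homOfLE ((hW.trans hW₀).trans hV₀)).op c) •
      resM E (π.preimage_mono (hW.trans hW₀)) s = 0 := by
    have := congrArg (resM E (π.preimage_mono hW)) e
    rw [resM_resM, map_zero, resM_smul, ← NormSeq24.app_res π (hW.trans hW₀), NormSeq24.res_res] at this
    exact this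
  have hs : resM E (π.preimage_mono (hW.trans hW₀)) s = 0 := EGA43.InjFibre.eq_zero_of_germ E _ fun y hy => by
    have h1 := congrArg (E.presheaf.germ (π ⁻¹ᵁ W) y hy) e'
    rw [QCohLoc.germ_smul', map_zero] at h1
    haveI := (hN y).1
    haveI := Props12.free_stalk_of_isFinLocFree E (VarietyLib.isFinLocFree_of_rank hE) y
    exact (smul_eq_zero.1 h1).resolve_left (NormSeq24.germ_app_ne_zero π hUd hWaff hcW hN y hy)
  rw [← pGerm_res π E (hW.trans hW₀) hxW, hs]
  exact germP_zero _ _ _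

variable {r : ℕ} {F : X.Modules} [Coh.IsQCoh F]
  (hfree : ∀ x : X, ¬ Curv2.IsNode k X x →
    Nonempty (F.presheaf.stalk x ≃ₗ[X.presheaf.stalk x] (Fin r → X.presheaf.stalk x)))
  {E₀ : Y.Modules} (hE₀ : FlatMod.IsFinLocFreeOfRank r E₀) (p : (Scheme.Modules.pullback π).obj F ⟶ E₀) [Epi p]

include hfree hU hE₀ in
/-- `p` is bijective over the smooth locus. -/
theorem stk_p_bijective {y : Y} (hy : y ∈ π ⁻¹ᵁ U) : Function.Bijective (stk p y) := by
  haveI : Coh.IsQCoh E₀ := LocFreeLib.isQCoh_of_isFinLocFreeOfRank hE₀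
  obtain ⟨e⟩ := hfree (π.base y) ((hU _).1 hy)
  letI := (π.stalkMap y).hom.toAlgebra
  let e₁ := ((pullbackStalkIso π y).app F).toLinearEquiv
  let e₂ : (ModuleCat.extendScalars (π.stalkMap y).hom).obj (St F (π.base y)) ≃ₗ[Y.presheaf.stalk y]
      (Fin r → Y.presheaf.stalk y) :=
    (LinearEquiv.baseChange (X.presheaf.stalk (π.base y)) (Y.presheaf.stalk y) _ _ e).trans
      (TensorProduct.piScalarRight (X.presheaf.stalk (π.base y)) (Y.presheaf.stalk y) (Y.presheaf.stalk y) (Fin r))
  haveI : Module.Free (Y.presheaf.stalk y) (St E₀ y) :=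
    Props12.free_stalk_of_isFinLocFree E₀ (VarietyLib.isFinLocFree_of_rank hE₀) y
  let q : (Fin r → Y.presheaf.stalk y) →ₗ[Y.presheaf.stalk y] St E₀ y :=
    LinearMap.comp (stk p y) (e₁.trans e₂).symm.toLinearMap
  have hq : Function.Surjective q := fun z => by
    obtain ⟨w, rfl⟩ := surjective_stk p y z
    exact ⟨(e₁.trans e₂) w, congrArg (stk p y) ((e₁.trans e₂).symm_apply_apply w)⟩
  haveI : Module.Finite (Y.presheaf.stalk y) (St E₀ y) := Module.Finite.of_surjective q hq
  let e₃ : St E₀ y ≃ₗ[Y.presheaf.stalk y] (Fin r → Y.presheaf.stalk y) :=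
    (Module.finBasisOfFinrankEq (Y.presheaf.stalk y) (St E₀ y)
      (show Module.finrank (Y.presheaf.stalk y) (St E₀ y) = r from VarietyLib.finrank_stalk_of_rank hE₀ y)).equivFun
  have hg : Function.Bijective (e₃.toLinearMap.comp q) :=
    OrzechProperty.bijective_of_surjective_endomorphism _ (e₃.surjective.comp hq)
  have hq' : Function.Bijective q := (Function.Bijective.of_comp_iff' e₃.bijective _).1 hg
  refine (congrArg Function.Bijective (funext fun v => ?_)).mpr (hq'.comp (e₁.trans e₂).bijective)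
  exact (congrArg (stk p y) ((e₁.trans e₂).symm_apply_apply v)).symm

include hfree hU hE₀ in
/-- `π_* p` is injective off the nodes. -/
theorem stk_push_p_injective {x : X} (hx : x ∈ U) :
    Function.Injective (stk ((Scheme.Modules.pushforward π).map p) x) :=
  stk_push_injective π p hx fun _ hy => (stk_p_bijective k π hU hfree hE₀ p hy).1

include hfree hU hE₀ hdim hnod in
/-- At a node the kernel of `π_* p` is killed by powers of an element of the maximal ideal. -/
theorem exists_pow_smul_eq_zero {x : X} (hx : Curv2.IsNode k X x) {t : X.presheaf.stalk x}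
    (ht : t ∈ maximalIdeal (X.presheaf.stalk x)) (z : St (pushPull π F) x)
    (hz : stk ((Scheme.Modules.pushforward π).map p) x z = 0) : ∃ n : ℕ, t ^ n • z = 0 := by
  haveI : Coh.IsQCoh (pushPull π F) := by
    haveI := EGA43.InjFibre.isQCoh_pullback π F
    exact isQCoh_push π _
  haveI := CurveRR24.isLocallyNoetherian_of_proper k (X := X)
  have hfin := (Hyper24.finite_compl_dense k hdim.le (dense_U k hdim hnod hU)).2
  have hfin' := (Hyper24.finite_compl_dense k hdim.le (dense_U k hdim hnod hU)).1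
  obtain ⟨O, hxO, c, rfl⟩ := X.presheaf.exists_germ_eq t
  let O' : X.Opens := ⟨((U : Set X)ᶜ \ {x})ᶜ, (by
    rw [show ((U : Set X)ᶜ \ {x}) = ⋃ z ∈ ((U : Set X)ᶜ \ {x}), {z} from (Set.biUnion_of_singleton _).symm]
    exact ((hfin'.sdiff (t := {x})).isClosed_biUnion fun z hz => hfin z hz.1).isOpen_compl)⟩
  obtain ⟨V₀, hV₀, -, hxV₀, s, rfl⟩ := exists_pGerm π _ z (show x ∈ O ⊓ O' from ⟨hxO, fun h => h.2 rfl⟩)
  rw [stk_push_pGerm] at hz
  obtain ⟨V, hV, hVaff, hxV, e⟩ := pGerm_eq_zero π E₀ hxV₀ _ hz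
  let c' : Γ(X, V) := X.presheaf.map (homOfLE (hV.trans (hV₀.trans inf_le_left))).op c
  have hD : X.basicOpen c' ≤ U := fun w hw => by
    by_contra hwU
    have hwx : w = x := by
      by_contra hne
      exact ((hV₀.trans inf_le_right) (hV (X.basicOpen_le c' hw))) ⟨hwU, hne⟩
    subst hwx
    have := (X.mem_basicOpen c' w hxV).1 hw
    rw [TopCat.Presheaf.germ_res_apply] at this
    exact ht this
  have h0 : (pushPull π F).presheaf.map (homOfLE (X.basicOpen_le c')).op
      (show Γ(pushPull π F, V) from resM _ (π.preimage_mono hV) s) = 0 := by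
    show resM _ (π.preimage_mono (X.basicOpen_le c')) (resM _ (π.preimage_mono hV) s) = 0
    refine EGA43.InjFibre.eq_zero_of_germ _ _ fun y hy => ?_
    refine (stk_p_bijective k π hU hfree hE₀ p (π.preimage_mono hD hy)).1 ?_
    refine (Coherent.stalk_map_germ p hy _).trans ?_
    have e2 : p.app (π ⁻¹ᵁ X.basicOpen c') (resM _ (π.preimage_mono (X.basicOpen_le c')) (resM _ (π.preimage_mono hV) s)) = 0 := by
      rw [app_resM, app_resM, e, map_zero]
    refine (congrArg (E₀.presheaf.germ (π ⁻¹ᵁ X.basicOpen c') y hy) e2).trans ?_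
    exact (map_zero _).trans (map_zero _).symm
  obtain ⟨n, hn⟩ := QCohLoc.exists_pow_smul_eq_zero (M := pushPull π F) hVaff c' _ h0
  refine ⟨n, ?_⟩
  rw [← TopCat.Presheaf.germ_res_apply X.presheaf (homOfLE (hV.trans (hV₀.trans inf_le_left))) x hxV,
    ← map_pow, ← pGerm_res π _ hV hxV, smul_pGerm]
  exact (congrArg (germP x (DCoh.toP.obj (pushPull π F)) V hxV) hn).trans (germP_zero _ _ _)

end Groth.Agent.TFNodal7
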